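/-
Classification of the involutions of `U` in characteristic two by a checked case tree: each node is a pattern
of vanishing and non-vanishing coordinates, closed by squaring, by conjugation with a root element or by a
table of moves between products of root elements with parameters one.
-/
import Cfsg.Agent.Lib.Lie.Twisted.F4Inv.Collect
import Cfsg.Agent.Lib.Lie.Rel.Torus
import Cfsg.Agent.Lib.Techniques.Basic
import Cfsg.Agent.Lib.Lie.Rel.Sylow

set_option autoImplicit false

namespace CfsgLib.Lie.Chev

open Cfsg.Lie (ChevalleyDatum)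
open MonCollect (Term mon word chkRead evalS chkSame addE smulE collect)

namespace InvTree

/-- a step of the case tree -/
inductive Step where
  | split (r c0 c1 : ℕ)
  | sq (r z : ℕ) (e : List ℕ) (c : ℕ)
  | contra (r : ℕ) (e : List ℕ)
  | kill (d k n : ℕ) (o : List ℕ) (c : ℕ)
  | done (lams : List (ℕ × List ℤ)) (m : ℕ)

/-- a node: possibly nonzero coordinates, nonzero coordinates, step -/
abbrev Node := List ℕ × List ℕ × Step

/-- a move between products with parameters one -/
inductive Move where
  | rep
  | byRoot (d j : ℕ)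
  | byRefl (i j : ℕ)

/-- unit exponent vectors of length `n` -/
def unitP : ℕ → ℕ → List ℕ
  | 0, _ => []
  | n + 1, 0 => 1 :: List.replicate n 0
  | n + 1, i + 1 => 0 :: unitP n i

/-- membership -/
def memN (r : ℕ) (L : List ℕ) : Bool := L.any fun x => Nat.beq x r

variable (D : ChevalleyDatum) (X : Aux)

/-- the exponent vector of a coordinate -/
def uR (r : ℕ) : List ℕ := unitP (half D + 1) (r - half D)

/-- the exponent vector of the free parameter -/
def uS : List ℕ := unitP (half D + 1) (half D)

/-- the word of a pattern -/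
def wordS (S : List ℕ) : List Term :=
  ((List.range' (half D) (half D)).filter fun r => memN r S).map fun r => (r, uR D r)

/-- the word with parameters one -/
def ones (T : List ℕ) : List Term := T.map fun r => (r, [])

/-- a monomial involves only the listed coordinates -/
def onlyN (e : List ℕ) (N : List ℕ) : Bool :=
  (List.range e.length).all fun i => Nat.beq (e.getD i 0) 0 || (Nat.blt i (half D) && memN (half D + i) N)

/-- a child is applicable -/
def subPat (tree : List Node) (own : ℕ) (S' N : List ℕ) (c : ℕ) : Bool :=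
  Nat.blt c own && S'.all (fun x => memN x (tree.getD c ([], [], .split 0 0 0)).1) &&
    (tree.getD c ([], [], .split 0 0 0)).2.1.all fun x => memN x N

/-- coordinates of a collected word at one root -/
def at' (L : List Term) (r : ℕ) : List (List ℕ) := (MonCollect.grp L r).map Prod.snd

/-- pairing of a cocharacter with a root -/
def pairing (lam : List ℤ) (r : ℕ) : ℤ := ((List.range D.rank).map fun i => lam.getD i 0 * D.cartan i r).sum

/-- scaling data -/
def chkLams : List ℕ → List (ℕ × List ℤ) → Bool
  | _, [] => true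
  | done, x :: L => done.all (fun y => decide (pairing D x.2 y = 0)) &&
      decide (pairing D x.2 x.1 ∈ [1, -1, 2, -2, 4, -4]) && chkLams (x.1 :: done) L

/-- the check of one node -/
def chkNode (table : List (List ℕ × Move)) (tree : List Node) (own : ℕ) : Bool :=
  match tree.getD own ([], [], .split 0 0 0) with
  | (S, N, .split r c0 c1) =>
      subPat tree own (S.filter fun x => !Nat.beq x r) N c0 && subPat tree own S (r :: N) c1
  | (S, N, .sq r z e c) =>
      chkRead D (wordS D S ++ wordS D S) [(r, [e])] && onlyN D e (z :: N) &&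
        subPat tree own (S.filter fun x => !Nat.beq x z) N c
  | (S, N, .contra r e) => chkRead D (wordS D S ++ wordS D S) [(r, [e])] && onlyN D e N
  | (S, N, .kill d k n o c) =>
      match collect D ((d, uS D) :: (wordS D S ++ [(d, uS D)])) with
      | some L =>
        decide ((List.range' (half D) (half D)).flatMap (MonCollect.grp L) = L) &&
          Nat.ble (half D) d && Nat.blt d D.nroots && memN k (List.range' (half D) (half D)) &&
          (n == 1 || n == 2) && onlyN D o N && Nat.blt c own &&
          decide ((at' L k).Perm [uR D k, addE (smulE n (uS D)) o]) &&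
          (List.range' (half D) (half D)).all (fun r => (!Nat.beq r k && memN r (tree.getD c ([], [], .split 0 0 0)).1) ||
            Nat.beq r k || (at' L r).isEmpty) &&
          (tree.getD c ([], [], .split 0 0 0)).2.1.all fun r => memN r N && !Nat.beq r k &&
            memN r (List.range' (half D) (half D)) && decide (at' L r = [uR D r])
      | none => false
  | (S, N, .done lams m) =>
      S.all (fun r => memN r N) && chkLams D [] lams && S.all (fun r => lams.any fun x => Nat.beq x.1 r) &&
        Nat.blt m table.length && decide ((List.range' (half D) (half D)).filter (fun r => memN r S) = (table.getD m ([], .rep)).1)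

/-- the check of the whole tree -/
def chkTree (table : List (List ℕ × Move)) (tree : List Node) (lo n : ℕ) : Bool :=
  (List.range' lo n).all fun i => chkNode D table tree i

/-- the check of one move -/
def chkMove (reps : List (List ℕ)) (table : List (List ℕ × Move)) (own : ℕ) : Bool :=
  match table.getD own ([], .rep) with
  | (T, .rep) => T.isEmpty || reps.any fun P => chkSame D (ones T) (ones P)
  | (T, .byRoot d j) => Nat.blt j own && chkSame D (ones ((d :: T) ++ [d])) (ones (table.getD j ([], .rep)).1)
  | (T, .byRefl i j) => Nat.blt j own && Nat.blt i D.rank && T.all (fun r => Nat.blt r D.nroots) &&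
      chkSame D (ones (T.map (X.w i))) (ones (table.getD j ([], .rep)).1)

/-- the check of the table of moves -/
def chkMoves (reps : List (List ℕ)) (table : List (List ℕ × Move)) : Bool :=
  (List.range table.length).all (chkMove D X reps table)

theorem memN_iff {r : ℕ} {L : List ℕ} : memN r L = true ↔ r ∈ L := by simp [memN, nat_beq_iff]

theorem mon_unitP {F : Type*} [CommMonoid F] : ∀ (n i : ℕ) (v : List F), i < n → mon v (unitP n i) = v.getD i 1
  | n + 1, 0, [], _ => rfl
  | n + 1, 0, x :: v, _ => by
    have h : ∀ (k : ℕ) (w : List F), mon w (List.replicate k 0) = 1 := by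
      intro k
      induction k with
      | zero => intro w; cases w <;> rfl
      | succ k ih => intro w; cases w <;> simp [List.replicate_succ, mon, ih]
    simp [unitP, mon, h]
  | n + 1, i + 1, [], _ => rfl
  | n + 1, i + 1, x :: v, h => by simp [unitP, mon, mon_unitP n i v (Nat.lt_of_succ_lt_succ h)]

theorem mon_eq_zero {F : Type*} [Field F] : ∀ (v : List F) (e : List ℕ), mon v e = 0 →
    ∃ i, i < v.length ∧ i < e.length ∧ e.getD i 0 ≠ 0 ∧ v.getD i 1 = 0
  | [], e, h => by simp [mon] at h
  | x :: v, [], h => by simp [mon] at h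
  | x :: v, k :: e, h => by
    rcases mul_eq_zero.1 h with h | h
    · obtain ⟨hx, hk⟩ := pow_eq_zero_iff'.1 h
      exact ⟨0, Nat.zero_lt_succ _, Nat.zero_lt_succ _, by simpa using hk, by simpa using hx⟩
    · obtain ⟨i, h1, h2, h3, h4⟩ := mon_eq_zero v e h
      exact ⟨i + 1, Nat.succ_lt_succ h1, Nat.succ_lt_succ h2, by simpa using h3, by simpa using h4⟩

end InvTree

open InvTree

namespace Rel

variable {D : ChevalleyDatum} {X : Aux} {F : Type*} [Field F] {G : Type*} [Group G] (R : Rel D X F G)
include R

/-- the atoms: the coordinates and a free parameter -/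
def treeAtoms (_R : Rel D X F G) (t : ℕ → F) (s : F) : List F := (List.range' (half D) (half D)).map t ++ [s]

theorem treeAtoms_coord (t : ℕ → F) (s : F) {i : ℕ} (hi : i < half D) :
    (R.treeAtoms t s).getD i 1 = t (half D + i) := by
  rw [treeAtoms, List.getD_eq_getElem?_getD, List.getElem?_append_left (by simpa using hi), List.getElem?_map,
    List.getElem?_range' hi]
  simp

theorem treeAtoms_last (t : ℕ → F) (s : F) : (R.treeAtoms t s).getD (half D) 1 = s := by
  rw [treeAtoms, List.getD_eq_getElem?_getD, List.getElem?_append_right (by simp)]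
  simp

theorem mon_uR (t : ℕ → F) (s : F) {r : ℕ} (h1 : half D ≤ r) (h2 : r < half D + half D) :
    mon (R.treeAtoms t s) (uR D r) = t r := by
  rw [uR, mon_unitP _ _ _ (by omega), R.treeAtoms_coord t s (by omega), Nat.add_sub_cancel' h1]

theorem mon_uS (t : ℕ → F) (s : F) : mon (R.treeAtoms t s) (uS D) = s := by
  rw [uS, mon_unitP _ _ _ (by omega), R.treeAtoms_last t s]

theorem mon_ne_zero (t : ℕ → F) (s : F) {e N : List ℕ} (h : onlyN D e N = true) (hN : ∀ r ∈ N, t r ≠ 0) :
    mon (R.treeAtoms t s) e ≠ 0 := by
  intro h0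
  obtain ⟨i, -, hi, he, hv⟩ := mon_eq_zero _ _ h0
  simp only [onlyN, List.all_eq_true, List.mem_range, Bool.or_eq_true, Bool.and_eq_true, nat_beq_iff,
    nat_blt_iff, memN_iff] at h
  rcases h i hi with h | ⟨h1, h2⟩
  · exact he h
  · rw [R.treeAtoms_coord t s h1] at hv
    exact hN _ h2 hv

theorem word_wordS (S : List ℕ) (t : ℕ → F) (s : F) (h : ∀ r, r ∉ S → t r = 0) :
    word R (R.treeAtoms t s) (wordS D S) = R.oprod (half D) (half D) t := by
  have key : ∀ l : List ℕ, (∀ r ∈ l, half D ≤ r ∧ r < half D + half D) →
      word R (R.treeAtoms t s) ((l.filter fun r => memN r S).map fun r => (r, uR D r)) =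
        (l.map fun r => R.xe r (t r)).prod := by
    intro l
    induction l with
    | nil => intro _; rfl
    | cons r l ih =>
      intro hl
      obtain ⟨h1, h2⟩ := hl r List.mem_cons_self
      have ih := ih fun x hx => hl x (List.mem_cons_of_mem _ hx)
      by_cases hr : r ∈ S
      · rw [List.filter_cons_of_pos (p := fun r => memN r S) (memN_iff.2 hr), List.map_cons, MonCollect.word_cons, ih, List.map_cons,
          List.prod_cons]
        congr 1
        rw [MonCollect.val, R.mon_uR t s h1 h2]
      · rw [List.filter_cons_of_neg (p := fun r => memN r S) (fun e => hr (memN_iff.1 e)), ih, List.map_cons, List.prod_cons, h r hr,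
          R.xe_zero, one_mul]
  exact key _ fun r hr => by rw [List.mem_range'_1] at hr; exact ⟨hr.1, by omega⟩

variable [CharP F 2]

/-- the torus element of a cocharacter scales the root elements -/
theorem torus_pairing (lam : List ℤ) (c : Fˣ) (r : Fin D.nroots) (t : F) :
    ((R.torusHom (fun i => c ^ lam.getD (i : ℕ) 0) : R.HS) : G) * R.xe r t *
      ((R.torusHom (fun i => c ^ lam.getD (i : ℕ) 0) : R.HS) : G)⁻¹ = R.xe r ((c : F) ^ pairing D lam r * t) := by
  classical
  have key : ∀ (d : Fin D.rank → Fˣ) (r : Fin D.nroots) (t : F), ((R.torusHom d : R.HS) : G) * R.xe r t *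
      ((R.torusHom d : R.HS) : G)⁻¹ = R.xe r (((∏ i : Fin D.rank, d i ^ D.cartan i r : Fˣ) : F) * t) := by
    intro d r
    let P : Submonoid (Fin D.rank → Fˣ) :=
      { carrier := {d | ∀ t : F, ((R.torusHom d : R.HS) : G) * R.xe r t * ((R.torusHom d : R.HS) : G)⁻¹ =
          R.xe r (((∏ i : Fin D.rank, d i ^ D.cartan i r : Fˣ) : F) * t)}
        one_mem' := fun t => by simp
        mul_mem' := fun {a b} ha hb t => by
          rw [map_mul, Subgroup.coe_mul,
            show ∀ x y z : G, x * y * z * (x * y)⁻¹ = x * (y * z * y⁻¹) * x⁻¹ from fun x y z => by group,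
            hb, ha, ← mul_assoc, ← Units.val_mul, ← Finset.prod_mul_distrib]
          simp only [Pi.mul_apply, mul_zpow] }
    suffices h : ∀ i u, Pi.mulSingle i u ∈ P by
      have : ∏ i, Pi.mulSingle i (d i) ∈ P := P.prod_mem fun i _ => h i (d i)
      rw [Finset.univ_prod_mulSingle] at this
      exact this
    intro i u t
    rw [R.torusHom_single]
    have h := (R.isMon_he_simple i u.ne_zero r).2.2.2 t
    rw [Equiv.Perm.one_apply] at h
    rw [Finset.prod_eq_single i (fun j _ hj => by rw [Pi.mulSingle_eq_of_ne hj, one_zpow]) (by simp),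
      Pi.mulSingle_eq_same, Units.val_zpow_eq_zpow_val]
    exact h
  rw [key]
  congr 2
  have hsum : pairing D lam r = ∑ i : Fin D.rank, lam.getD (i : ℕ) 0 * D.cartan i r := by
    rw [pairing, Fin.sum_univ_eq_sum_range (fun i => lam.getD i 0 * D.cartan i r)]
    rfl
  rw [hsum, Units.coe_prod]
  simp only [Units.val_zpow_eq_zpow_val, ← zpow_mul]
  generalize (Finset.univ : Finset (Fin D.rank)) = u
  induction u using Finset.induction_on with
  | empty => simp
  | insert a u ha ih => rw [Finset.prod_insert ha, Finset.sum_insert ha, ih, zpow_add₀ c.ne_zero]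

theorem pow_solve (hperf : ∀ x : F, ∃ y, y ^ (2 : ℕ) = x) {p : ℤ} (hp : p ∈ [1, -1, 2, -2, 4, -4]) {x : F}
    (hx : x ≠ 0) : ∃ c : Fˣ, (c : F) ^ p = x := by
  have _ := R
  obtain ⟨a, ha⟩ := hperf x
  obtain ⟨b, hb⟩ := hperf a
  have ha0 : a ≠ 0 := by rintro rfl; exact hx (by rw [← ha]; simp)
  have hb0 : b ≠ 0 := by rintro rfl; exact ha0 (by rw [← hb]; simp)
  simp only [List.mem_cons, List.not_mem_nil, or_false] at hp
  rcases hp with rfl | rfl | rfl | rfl | rfl | rfl
  · exact ⟨Units.mk0 x hx, by simp⟩
  · exact ⟨Units.mk0 x⁻¹ (inv_ne_zero hx), by simp⟩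
  · exact ⟨Units.mk0 a ha0, by simpa using ha⟩
  · refine ⟨Units.mk0 a⁻¹ (inv_ne_zero ha0), ?_⟩
    rw [Units.val_mk0, show (-2 : ℤ) = -((2 : ℕ) : ℤ) from rfl, zpow_neg, zpow_natCast, inv_pow, inv_inv, ha]
  · refine ⟨Units.mk0 b hb0, ?_⟩
    rw [Units.val_mk0, show (4 : ℤ) = ((4 : ℕ) : ℤ) from rfl, zpow_natCast, show (4 : ℕ) = 2 * 2 from rfl, pow_mul, hb, ha]
  · refine ⟨Units.mk0 b⁻¹ (inv_ne_zero hb0), ?_⟩
    rw [Units.val_mk0, show (-4 : ℤ) = -((4 : ℕ) : ℤ) from rfl, zpow_neg, zpow_natCast, inv_pow, inv_inv,
      show (4 : ℕ) = 2 * 2 from rfl, pow_mul, hb, ha]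

/-- the scalars are removed by the torus -/
theorem exists_scaling (hperf : ∀ x : F, ∃ y, y ^ (2 : ℕ) = x) : ∀ (lams : List (ℕ × List ℤ)) (fin : List ℕ) (t : ℕ → F),
    chkLams D fin lams = true → (∀ r ∈ fin, t r = 1) → (∀ x ∈ lams, x.1 < D.nroots → t x.1 ≠ 0) →
    ∃ (h : G) (t' : ℕ → F), h * R.oprod (half D) (half D) t * h⁻¹ = R.oprod (half D) (half D) t' ∧
      (∀ r, t r = 0 → t' r = 0) ∧ (∀ r ∈ fin, t' r = 1) ∧ ∀ x ∈ lams, x.1 < D.nroots → t' x.1 = 1
  | [], fin, t, _, hf, _ => ⟨1, t, by simp, fun _ h => h, hf, by simp⟩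
  | x :: lams, fin, t, hc, hf, h0 => by
    simp only [chkLams, Bool.and_eq_true, List.all_eq_true, decide_eq_true_iff] at hc
    obtain ⟨⟨hc1, hc2⟩, hc3⟩ := hc
    obtain ⟨u, hu⟩ : ∃ u : Fˣ, x.1 < D.nroots → (u : F) ^ pairing D x.2 x.1 * t x.1 = 1 := by
      by_cases hlt : x.1 < D.nroots
      · have hne := h0 x List.mem_cons_self hlt
        obtain ⟨u, hu⟩ := R.pow_solve hperf hc2 (inv_ne_zero hne)
        exact ⟨u, fun _ => by rw [hu, inv_mul_cancel₀ hne]⟩
      · exact ⟨1, fun h => absurd h hlt⟩
    obtain ⟨k, hk⟩ : ∃ k : G, k = ((R.torusHom (fun i => u ^ x.2.getD (i : ℕ) 0) : R.HS) : G) := ⟨_, rfl⟩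
    obtain ⟨t1, ht1⟩ : ∃ t1 : ℕ → F, t1 = fun r => if r < D.nroots then (u : F) ^ pairing D x.2 r * t r else t r :=
      ⟨_, rfl⟩
    have e1 : k * R.oprod (half D) (half D) t * k⁻¹ = R.oprod (half D) (half D) t1 := by
      rw [oprod, oprod, ← MulAut.conj_apply, map_list_prod, List.map_map]
      refine congrArg List.prod (List.map_congr_left fun r hr => ?_)
      rw [List.mem_range'_1] at hr
      have hlt : r < D.nroots := by have := R.cert.nroots_eq; omega
      show k * R.xe r (t r) * k⁻¹ = R.xe r (t1 r)
      simp only [ht1, if_pos hlt]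
      rw [hk]
      exact R.torus_pairing x.2 u ⟨r, hlt⟩ (t r)
    have hf1 : ∀ r ∈ x.1 :: fin, r < D.nroots → t1 r = 1 := by
      intro r hr hlt
      simp only [ht1, if_pos hlt]
      rcases List.mem_cons.1 hr with rfl | hr
      · exact hu hlt
      · rw [hc1 r hr, zpow_zero, one_mul, hf r hr]
    obtain ⟨t2, ht2⟩ : ∃ t2 : ℕ → F, t2 = fun r => if r < D.nroots then t1 r else 1 := ⟨_, rfl⟩
    have hsame : R.oprod (half D) (half D) t1 = R.oprod (half D) (half D) t2 := R.oprod_congr fun r h1 h2 => by
      have : r < D.nroots := by have := R.cert.nroots_eq; omega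
      simp only [ht2, if_pos this]
    obtain ⟨h, t', e2, h1, h2, h3⟩ := exists_scaling hperf lams (x.1 :: fin) t2 hc3
      (fun r hr => by
        by_cases hlt : r < D.nroots
        · simp only [ht2, if_pos hlt]; exact hf1 r hr hlt
        · simp only [ht2, if_neg hlt])
      (fun y hy hlt => by
        simp only [ht2, ht1, if_pos hlt]
        exact mul_ne_zero (zpow_ne_zero _ u.ne_zero) (h0 y (List.mem_cons_of_mem _ hy) hlt))
    obtain ⟨t'', ht''⟩ : ∃ t'' : ℕ → F, t'' = fun r => if r < D.nroots then t' r else t r := ⟨_, rfl⟩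
    have hsame' : R.oprod (half D) (half D) t' = R.oprod (half D) (half D) t'' := R.oprod_congr fun r h1 h2 => by
      have : r < D.nroots := by have := R.cert.nroots_eq; omega
      simp only [ht'', if_pos this]
    refine ⟨h * k, t'', ?_, fun r hr => ?_, fun r hr => ?_, fun y hy hlt => ?_⟩
    · rw [← hsame', ← e2, ← hsame, ← e1]; group
    · by_cases hlt : r < D.nroots
      · simp only [ht'', if_pos hlt]
        exact h1 r (by simp only [ht2, ht1, if_pos hlt, hr, mul_zero])
      · simp only [ht'', if_neg hlt]; exact hr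
    · by_cases hlt : r < D.nroots
      · simp only [ht'', if_pos hlt]; exact h2 r (List.mem_cons_of_mem _ hr)
      · simp only [ht'', if_neg hlt]; exact hf r hr
    · simp only [ht'', if_pos hlt]
      rcases List.mem_cons.1 hy with rfl | hy
      · exact h2 y.1 List.mem_cons_self
      · exact h3 y hy hlt

/-- the product over roots with parameters one -/
def prodOnes (T : List ℕ) : G := (T.map fun r => R.xe r 1).prod

theorem word_ones (v : List F) (T : List ℕ) : word R v (ones T) = R.prodOnes T := by
  have _ := R
  simp only [MonCollect.word, ones, prodOnes, List.map_map]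
  refine congrArg List.prod (List.map_congr_left fun r _ => ?_)
  show R.xe r (mon v []) = _
  cases v <;> rfl

theorem ne_conj_one (i : Fin D.rank) {r : ℕ} (hr : r < D.nroots) :
    R.ne (D.simple i) 1 * R.xe r 1 * (R.ne (D.simple i) 1)⁻¹ = R.xe (X.w i r) 1 := by
  have h4 := (R.isMon_ne_simple i (one_ne_zero (α := F)) ⟨r, hr⟩).2.2.2 1
  have he : ((X.eta i r : ℤ) : F) = 1 := by
    rcases mul_self_eq_one_iff.1 (X.eta_sq_cast (F := F) i r) with h | h
    · exact h
    · rw [h, CharTwo.neg_eq]
  simp only [one_zpow, mul_one, he] at h4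
  exact h4

/-- a checked table carries each product to a representative -/
theorem move_spec {reps : List (List ℕ)} {table : List (List ℕ × Move)} (h : chkMoves D X reps table = true) :
    ∀ m, m < table.length → R.prodOnes (table.getD m ([], .rep)).1 = 1 ∨
      ∃ P ∈ reps, IsConj (R.prodOnes (table.getD m ([], .rep)).1) (R.prodOnes P) := by
  intro m
  induction m using Nat.strong_induction_on with
  | _ m ih =>
    intro hm
    simp only [chkMoves, List.all_eq_true, List.mem_range] at h
    have hc := h m hm
    rcases hT : table.getD m ([], .rep) with ⟨T, mv⟩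
    simp only [chkMove, hT] at hc
    have step : ∀ j, j < m → IsConj (R.prodOnes T) (R.prodOnes (table.getD j ([], .rep)).1) →
        R.prodOnes T = 1 ∨ ∃ P ∈ reps, IsConj (R.prodOnes T) (R.prodOnes P) := fun j hj e => by
      rcases ih j hj (hj.trans hm) with h1 | ⟨P, hP, hc⟩
      · exact Or.inl (isConj_one_left.1 (h1 ▸ e))
      · exact Or.inr ⟨P, hP, e.trans hc⟩
    cases mv with
    | rep =>
      simp only [Bool.or_eq_true, List.isEmpty_iff, List.any_eq_true] at hc
      rcases hc with rfl | ⟨P, hP, hPc⟩
      · exact Or.inl (by simp [prodOnes])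
      · refine Or.inr ⟨P, hP, ?_⟩
        rw [← R.word_ones [] T, ← R.word_ones [] P, MonCollect.word_eq_of_chk R [] hPc]
    | byRoot d j =>
      simp only [Bool.and_eq_true, nat_blt_iff] at hc
      refine step j hc.1 (isConj_iff.2 ⟨R.xe d 1, ?_⟩)
      have e := MonCollect.word_eq_of_chk R ([] : List F) hc.2
      rw [R.word_ones, R.word_ones] at e
      simp only [prodOnes, List.cons_append, List.map_cons, List.map_append, List.prod_cons, List.prod_append,
        List.map_nil, List.prod_nil, mul_one] at e ⊢
      rw [← e, mul_assoc, ← R.xe_neg, CharTwo.neg_eq]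
    | byRefl i j =>
      simp only [Bool.and_eq_true, nat_blt_iff, List.all_eq_true] at hc
      obtain ⟨⟨⟨hj, hi⟩, hlt⟩, hs⟩ := hc
      refine step j hj (isConj_iff.2 ⟨R.ne (D.simple (⟨i, hi⟩ : Fin D.rank)) 1, ?_⟩)
      have e := MonCollect.word_eq_of_chk R ([] : List F) hs
      rw [R.word_ones, R.word_ones] at e
      rw [← e]
      simp only [prodOnes, List.map_map]
      rw [← MulAut.conj_apply, map_list_prod, List.map_map]
      exact congrArg List.prod (List.map_congr_left fun r hr => R.ne_conj_one ⟨i, hi⟩ (hlt r hr))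

/-- the claim of a node -/
def Holds (reps : List (List ℕ)) (n : Node) : Prop :=
  ∀ t : ℕ → F, (∀ r, r ∉ n.1 → t r = 0) → (∀ r ∈ n.2.1, t r ≠ 0) →
    R.oprod (half D) (half D) t * R.oprod (half D) (half D) t = 1 →
    R.oprod (half D) (half D) t = 1 ∨ ∃ P ∈ reps, IsConj (R.oprod (half D) (half D) t) (R.prodOnes P)

variable (hperf : ∀ x : F, ∃ y, y ^ (2 : ℕ) = x) {reps : List (List ℕ)} {table : List (List ℕ × Move)}
  {tree : List Node} (hM : chkMoves D X reps table = true)

include hperf hM in
theorem node_spec (own : ℕ) (hc : chkNode D table tree own = true)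
    (ih : ∀ c, c < own → R.Holds reps (tree.getD c ([], [], .split 0 0 0))) :
    R.Holds reps (tree.getD own ([], [], .split 0 0 0)) := by
  rcases hn : tree.getD own ([], [], .split 0 0 0) with ⟨S, N, st⟩
  simp only [chkNode, hn] at hc
  intro t hS hN h2
  have sub : ∀ {S' N' : List ℕ} {c : ℕ}, subPat tree own S' N' c = true → (∀ r, r ∉ S' → t r = 0) →
      (∀ r ∈ N', t r ≠ 0) → R.oprod (half D) (half D) t = 1 ∨
        ∃ P ∈ reps, IsConj (R.oprod (half D) (half D) t) (R.prodOnes P) := by
    intro S' N' c hc h1 h3
    simp only [subPat, Bool.and_eq_true, nat_blt_iff, List.all_eq_true, memN_iff] at hc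
    exact ih c hc.1.1 t (fun r hr => h1 r fun h => hr (hc.1.2 r h)) (fun r hr => h3 r (hc.2 r hr)) h2
  have sq : ∀ {r : ℕ} {e : List ℕ}, chkRead D (wordS D S ++ wordS D S) [(r, [e])] = true →
      mon (R.treeAtoms t 0) e = 0 := by
    intro r e hr
    obtain ⟨f, ef, hf⟩ := MonCollect.exists_read R (R.treeAtoms t 0) hr
    obtain ⟨h1, h1', e1⟩ := hf _ List.mem_cons_self
    rw [MonCollect.word_append, R.word_wordS S t 0 hS, h2] at ef
    have e0 : (1 : G) = R.oprod (half D) (half D) fun _ => (0 : F) := by simp [oprod, R.xe_zero]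
    have h := R.oprod_inj _ _ _ f le_rfl (by have := R.cert.nroots_eq; omega)
      (congrArg R.θ (e0.symm.trans ef)) r h1 h1'
    simp only [MonCollect.evalS, List.map_cons, List.map_nil, List.sum_cons, List.sum_nil, add_zero] at e1
    rw [← e1, ← h]
  cases st with
  | split r c0 c1 =>
    simp only [Bool.and_eq_true] at hc
    by_cases hr : t r = 0
    · refine sub hc.1 (fun x hx => ?_) hN
      by_cases hxS : x ∈ S
      · simp only [List.mem_filter, hxS, true_and, Bool.not_eq_true', ← Bool.not_eq_true, not_not, nat_beq_iff] at hx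
        rw [hx, hr]
      · exact hS x hxS
    · exact sub hc.2 hS fun x hx => (List.mem_cons.1 hx).elim (fun e => e ▸ hr) (hN x)
  | sq r z e c =>
    simp only [Bool.and_eq_true] at hc
    have hz : t z = 0 := by
      by_contra hz
      exact R.mon_ne_zero t 0 hc.1.2 (fun x hx => (List.mem_cons.1 hx).elim (fun h => h ▸ hz) (hN x)) (sq hc.1.1)
    refine sub hc.2 (fun x hx => ?_) hN
    by_cases hxS : x ∈ S
    · simp only [List.mem_filter, hxS, true_and, Bool.not_eq_true', ← Bool.not_eq_true, not_not, nat_beq_iff] at hx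
      rw [hx, hz]
    · exact hS x hxS
  | contra r e =>
    simp only [Bool.and_eq_true] at hc
    exact absurd (sq hc.1) (R.mon_ne_zero t 0 hc.2 hN)
  | kill d k n o c =>
    cases hL : collect D ((d, uS D) :: (wordS D S ++ [(d, uS D)])) with
    | none => simp [hL] at hc
    | some L =>
      simp only [hL, Bool.and_eq_true, decide_eq_true_iff, nat_ble_iff, nat_blt_iff, memN_iff, Bool.or_eq_true,
        beq_iff_eq, List.all_eq_true, List.isEmpty_iff, Bool.not_eq_true', List.mem_range'_1] at hc
      obtain ⟨⟨⟨⟨⟨⟨⟨⟨⟨hgrp, hd⟩, hdlt⟩, hk⟩, hn2⟩, ho⟩, hcl⟩, hperm⟩, hout⟩, hkeep⟩ := hc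
      have hm0 : ∀ s : F, mon (R.treeAtoms t s) o = mon (R.treeAtoms t 0) o := by
        intro s
        have hcong : ∀ (e : List ℕ) (v w : List F), v.length = w.length →
            (∀ i, e.getD i 0 ≠ 0 → v.getD i 1 = w.getD i 1) → mon v e = mon w e := by
          intro e
          induction e with
          | nil => intro v w _ _; cases v <;> cases w <;> rfl
          | cons a e ihe =>
            intro v w hl hvw
            match v, w, hl with
            | [], [], _ => rfl
            | x :: v, y :: w, hl =>
              simp only [List.length_cons, Nat.add_right_cancel_iff] at hl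
              rw [mon, mon, ihe v w hl fun i hi => by simpa using hvw (i + 1) (by simpa using hi)]
              congr 1
              by_cases ha : a = 0
              · simp [ha]
              · have h0 := hvw 0 (by simpa using ha)
                simp only [List.getD_cons_zero] at h0
                rw [h0]
        refine hcong o _ _ (by simp [treeAtoms]) fun i hi => ?_
        simp only [onlyN, List.all_eq_true, List.mem_range, Bool.or_eq_true, Bool.and_eq_true, nat_beq_iff,
          nat_blt_iff] at ho
        have hil : i < o.length := by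
          by_contra hh
          exact hi (List.getD_eq_default _ _ (by omega))
        rcases ho i hil with h | ⟨h, -⟩
        · exact absurd h hi
        · rw [R.treeAtoms_coord t s h, R.treeAtoms_coord t 0 h]
      have hm : mon (R.treeAtoms t 0) o ≠ 0 := R.mon_ne_zero t 0 ho hN
      obtain ⟨s, hs⟩ : ∃ s : F, s ^ n * mon (R.treeAtoms t 0) o = t k := by
        rcases hn2 with rfl | rfl
        · exact ⟨t k / mon (R.treeAtoms t 0) o, by rw [pow_one, div_mul_cancel₀ _ hm]⟩
        · obtain ⟨y, hy⟩ := hperf (t k / mon (R.treeAtoms t 0) o)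
          exact ⟨y, by rw [hy, div_mul_cancel₀ _ hm]⟩
      obtain ⟨t', ht'⟩ : ∃ t' : ℕ → F, t' = fun r =>
          if half D ≤ r ∧ r < half D + half D then evalS (R.treeAtoms t s) (at' L r) else 0 := ⟨_, rfl⟩
      have hconj : R.xe d s * R.oprod (half D) (half D) t * (R.xe d s)⁻¹ = R.oprod (half D) (half D) t' := by
        rw [show (R.xe d s)⁻¹ = R.xe d s by rw [← R.xe_neg, CharTwo.neg_eq],
          show R.oprod (half D) (half D) t' = R.oprod (half D) (half D) (fun r => evalS (R.treeAtoms t s) (at' L r)) from
            R.oprod_congr fun r h1 h1' => by simp only [ht', if_pos (And.intro h1 h1')]]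
        refine Eq.trans ?_ ((MonCollect.collect_word R (R.treeAtoms t s) hL).symm.trans
          (MonCollect.word_eq_oprod R _ L hgrp))
        rw [MonCollect.word_cons, MonCollect.word_append, R.word_wordS S t s hS, MonCollect.word_cons,
          MonCollect.word_nil, mul_one, MonCollect.val, R.mon_uS t s, mul_assoc]
      have hk0 : t' k = 0 := by
        simp only [ht', if_pos hk, MonCollect.evalS]
        rw [(hperm.map _).sum_eq]
        simp only [List.map_cons, List.map_nil, List.sum_cons, List.sum_nil, add_zero, MonCollect.mon_addE,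
          MonCollect.mon_smulE, R.mon_uR t s hk.1 hk.2, R.mon_uS t s, hm0 s, hs, CharTwo.add_self_eq_zero]
      have hc' := ih c hcl t' (fun r hr => ?_) (fun r hr => ?_) ?_
      · rcases hc' with h1 | ⟨P, hP, h1⟩
        · exact Or.inl (conj_eq_one_iff.1 (hconj.trans h1))
        · exact Or.inr ⟨P, hP, (isConj_iff.2 ⟨R.xe d s, hconj⟩).trans h1⟩
      · by_cases hrr : half D ≤ r ∧ r < half D + half D
        · rcases hout r hrr with (h | h) | h
          · exact absurd h.2 hr
          · rw [nat_beq_iff.1 h]; exact hk0
          · simp only [ht', if_pos hrr, h, MonCollect.evalS, List.map_nil, List.sum_nil]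
        · simp only [ht', if_neg hrr]
      · obtain ⟨⟨⟨hrN, -⟩, hrr⟩, hone⟩ := hkeep r hr
        simp only [ht', if_pos hrr, hone, MonCollect.evalS, List.map_cons, List.map_nil, List.sum_cons,
          List.sum_nil, add_zero, R.mon_uR t s hrr.1 hrr.2]
        exact hN r hrN
      · rw [← hconj]
        calc _ = R.xe d s * (R.oprod (half D) (half D) t * R.oprod (half D) (half D) t) * (R.xe d s)⁻¹ := by group
          _ = 1 := by rw [h2]; group
  | done lams m =>
    simp only [Bool.and_eq_true, List.all_eq_true, memN_iff, List.any_eq_true, nat_beq_iff, nat_blt_iff,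
      decide_eq_true_iff] at hc
    obtain ⟨⟨⟨⟨hSN, hl⟩, hcov⟩, hm⟩, hT⟩ := hc
    obtain ⟨t0, ht0⟩ : ∃ t0 : ℕ → F, t0 = fun r => if r ∈ S then t r else if half D ≤ r ∧ r < half D + half D then 0 else 1 :=
      ⟨_, rfl⟩
    have e0 : R.oprod (half D) (half D) t = R.oprod (half D) (half D) t0 := R.oprod_congr fun r h1 h1' => by
      by_cases hr : r ∈ S
      · simp only [ht0, if_pos hr]
      · simp only [ht0, if_neg hr, if_pos (And.intro h1 h1'), hS r hr]
    obtain ⟨h, t', et, hz, -, hone⟩ := R.exists_scaling hperf (lams.filter fun x => memN x.1 S) [] t0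
      (by
        clear hcov
        have mono : ∀ (L : List (ℕ × List ℤ)) (A B : List ℕ), (∀ y ∈ B, y ∈ A) → chkLams D A L = true →
            chkLams D B (L.filter fun x => memN x.1 S) = true := by
          intro L
          induction L with
          | nil => intros; rfl
          | cons x L ihL =>
            intro A B hAB hx
            simp only [chkLams, Bool.and_eq_true, List.all_eq_true] at hx
            by_cases hxS : memN x.1 S = true
            · rw [List.filter_cons_of_pos (p := fun y : ℕ × List ℤ => memN y.1 S) hxS]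
              simp only [chkLams, Bool.and_eq_true, List.all_eq_true]
              exact ⟨⟨fun y hy => hx.1.1 y (hAB y hy), hx.1.2⟩,
                ihL _ _ (fun y hy => (List.mem_cons.1 hy).elim (fun e => e ▸ List.mem_cons_self)
                  fun h => List.mem_cons_of_mem _ (hAB y h)) hx.2⟩
            · rw [List.filter_cons_of_neg (p := fun y : ℕ × List ℤ => memN y.1 S) hxS]
              exact ihL _ _ (fun y hy => List.mem_cons_of_mem _ (hAB y hy)) hx.2
        exact mono lams [] [] (fun _ h => h) hl)
      (by simp)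
      (fun x hx _ => by
        have hxS : x.1 ∈ S := memN_iff.1 (List.mem_filter.1 hx).2
        simp only [ht0, if_pos hxS]
        exact hN _ (hSN _ hxS))
    have e1 : R.oprod (half D) (half D) t' = R.prodOnes (table.getD m ([], .rep)).1 := by
      rw [← hT, oprod, prodOnes]
      have key : ∀ l : List ℕ, (∀ r ∈ l, half D ≤ r ∧ r < half D + half D) →
          (l.map fun r => R.xe r (t' r)).prod = ((l.filter fun r => memN r S).map fun r => R.xe r 1).prod := by
        intro l
        induction l with
        | nil => intro _; rfl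
        | cons r l ihl =>
          intro hlr
          obtain ⟨h1, h1'⟩ := hlr r List.mem_cons_self
          rw [List.map_cons, List.prod_cons, ihl fun x hx => hlr x (List.mem_cons_of_mem _ hx)]
          by_cases hr : r ∈ S
          · obtain ⟨x, hx, rfl⟩ := hcov r hr
            rw [List.filter_cons_of_pos (p := fun r => memN r S) (memN_iff.2 hr), List.map_cons, List.prod_cons,
              hone x (List.mem_filter.2 ⟨hx, memN_iff.2 hr⟩) (by have := R.cert.nroots_eq; omega)]
          · rw [List.filter_cons_of_neg (p := fun r => memN r S) (fun e => hr (memN_iff.1 e)),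
              hz r (by simp only [ht0, if_neg hr, if_pos (And.intro h1 h1')]), R.xe_zero, one_mul]
      exact key _ fun r hr => by rw [List.mem_range'_1] at hr; exact ⟨hr.1, by omega⟩
    have hconj : IsConj (R.oprod (half D) (half D) t) (R.prodOnes (table.getD m ([], .rep)).1) :=
      isConj_iff.2 ⟨h, by rw [e0, et, e1]⟩
    rcases R.move_spec hM m hm with h1 | ⟨P, hP, h1⟩
    · exact Or.inl (isConj_one_left.1 (h1 ▸ hconj))
    · exact Or.inr ⟨P, hP, hconj.trans h1⟩

include hperf hM in
/-- a checked tree classifies the patterns of its nodes -/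
theorem tree_spec (hT : ∀ i, i < tree.length → chkNode D table tree i = true) :
    ∀ i, i < tree.length → R.Holds reps (tree.getD i ([], [], .split 0 0 0)) := by
  intro i
  induction i using Nat.strong_induction_on with
  | _ i ih => exact fun hi => R.node_spec hperf hM i (hT i hi) fun c hc => ih c hc (hc.trans hi)

end Rel

/-- every involution of the group is conjugate to a representative of a checked tree -/
theorem exists_rep_of_tree {D : ChevalleyDatum} {X : Aux} (C : Cert D X) (F : Type*) [Field F] [Fintype F] [CharP F 2]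
    {reps : List (List ℕ)} {table : List (List ℕ × Move)} {tree : List Node} {top : ℕ}
    (hM : chkMoves D X reps table = true) (hT : ∀ i, i < tree.length → chkNode D table tree i = true)
    (htop : decide (top < tree.length ∧ (List.range' (half D) (half D)).all (fun r => memN r (tree.getD top ([], [], .split 0 0 0)).1) = true ∧
      (tree.getD top ([], [], .split 0 0 0)).2.1 = []) = true)
    {g : ↥(D.group F)} (hg : orderOf g = 2) : ∃ P ∈ reps, IsConj g ((chevRel C F).prodOnes P) := by
  obtain ⟨htl, hall, hnil⟩ := of_decide_eq_true htop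
  simp only [List.all_eq_true, memN_iff] at hall
  have : Finite ↥(D.group F) := (chevRel C F).Finite_of_field
  have hperf : ∀ x : F, ∃ y, y ^ (2 : ℕ) = x := fun x => by
    obtain ⟨y, hy⟩ := FiniteField.isSquare_of_char_two (ringChar.eq F 2) x
    exact ⟨y, (sq y).trans hy.symm⟩
  obtain ⟨P, hP⟩ := pos_unipotent_sylow C F 2
  rw [posUnipotent_eq C F, subgroupOf_map C F] at hP
  have hpg : IsPGroup 2 ↥(Subgroup.zpowers g) := IsPGroup.of_card (n := 1) (by rw [Nat.card_zpowers, hg, pow_one])
  obtain ⟨k, hk⟩ := CfsgLib.Techniques.exists_conj_mem_sylow P hpg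
  have hkU := hk g (Subgroup.mem_zpowers g)
  rw [hP] at hkU
  obtain ⟨t, ht⟩ := (chevRel C F).exists_oprod_UP hkU
  obtain ⟨t', ht'⟩ : ∃ t' : ℕ → F, t' = fun r => if half D ≤ r ∧ r < half D + half D then t r else 0 := ⟨_, rfl⟩
  have e : k * g * k⁻¹ = (chevRel C F).oprod (half D) (half D) t' := by
    rw [ht]
    exact (chevRel C F).oprod_congr fun r h1 h2 => by simp only [ht', if_pos (And.intro h1 h2)]
  have h2 : (k * g * k⁻¹) * (k * g * k⁻¹) = 1 := by
    rw [show k * g * k⁻¹ * (k * g * k⁻¹) = k * (g ^ 2) * k⁻¹ by rw [sq]; group, ← hg, pow_orderOf_eq_one]; group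
  rw [e] at h2
  have hS : ∀ r, r ∉ (tree.getD top ([], [], Step.split 0 0 0)).1 → t' r = 0 := fun r hr => by
    simp only [ht']
    rw [if_neg]
    intro h
    exact hr (hall r (List.mem_range'_1.2 h))
  rcases (chevRel C F).tree_spec hperf hM hT top htl t' hS (fun r hr => by rw [hnil] at hr; exact absurd hr List.not_mem_nil) h2 with h1 | ⟨P, hP', h1⟩
  · exfalso
    have hne : g ≠ 1 := fun h => by rw [h, orderOf_one] at hg; exact absurd hg (by norm_num)
    exact hne (conj_eq_one_iff.1 (e.trans h1))
  · exact ⟨P, hP', (isConj_iff.2 ⟨k, e⟩).trans h1⟩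

end CfsgLib.Lie.Chev
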