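/-
The action in characteristic two on an invariant coordinate subspace and the rank of `g - 1` there.
-/
import Cfsg.Agent.Lib.Lie.CharTwoTree.Tree
import Cfsg.Agent.Lib.Lie.CharTwoInv.Rank

set_option autoImplicit false

namespace CfsgLib.Lie.Chev

open Cfsg.Lie (ChevalleyDatum)
open Inv2
open scoped Matrix

namespace InvTree

/-- matrices preserving the coordinate subspace spanned by the image of `e` -/
def Pres {F : Type*} [Field F] {κ n : Type*} (e : κ → n) (M : Matrix n n F) : Prop :=
  ∀ b, b ∉ Set.range e → ∀ j, M b (e j) = 0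

theorem Pres.one {F : Type*} [Field F] {κ n : Type*} [DecidableEq n] (e : κ → n) :
    Pres e (1 : Matrix n n F) := fun b hb j => Matrix.one_apply_ne fun h => hb ⟨j, h.symm⟩

theorem Pres.mul {F : Type*} [Field F] {κ n : Type*} [Fintype n] {e : κ → n} {M N : Matrix n n F}
    (hM : Pres e M) (hN : Pres e N) : Pres e (M * N) := by
  intro b hb j
  rw [Matrix.mul_apply]
  refine Finset.sum_eq_zero fun c _ => ?_
  by_cases hc : c ∈ Set.range e
  · obtain ⟨i, rfl⟩ := hc
    rw [hM b hb i, zero_mul]
  · rw [hN c hc j, mul_zero]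

theorem Pres.submatrix_mul {F : Type*} [Field F] {κ n : Type*} [Fintype n] [Fintype κ] {e : κ → n}
    (he : Function.Injective e) (M : Matrix n n F) {N : Matrix n n F} (hN : Pres e N) :
    (M * N).submatrix e e = M.submatrix e e * N.submatrix e e := by
  ext i j
  simp only [Matrix.submatrix_apply, Matrix.mul_apply]
  exact (Fintype.sum_of_injective e he _ _ (fun b hb => by rw [hN b hb j, mul_zero]) fun _ => rfl).symm

/-- number of a listed code -/
def subIdx (I : List ℕ) (x : ℕ) : ℕ := I.findIdx fun y => Nat.beq y x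

/-- sparse columns of the restriction -/
def subCols (I : List ℕ) (cols : List (List ℕ)) : List (List ℕ) :=
  I.map fun c => ((cols.getD c []).filter fun x => memN x I).map (subIdx I)

/-- the entries of each generator preserve the subspace -/
def chkIdeal (D : ChevalleyDatum) (I : List ℕ) : Bool :=
  decide I.Nodup && I.all (fun c => Nat.blt c (D.rank + D.nroots)) &&
    (List.range D.nroots).all fun r => (entries D r).all fun e =>
      !memN e.2.2.1 I || memN e.2.1 I || decide (e.2.2.2 % 2 = 0)

/-- certificate of the rank of the restriction of `∏ x_r(1) - 1` -/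
noncomputable def chkSubRank (D : ChevalleyDatum) (I T : List ℕ) (r : ℕ) (U V : List (List ℕ)) : Bool :=
  T.all (fun s => Nat.blt s D.nroots) &&
    chkRankCols I.length r (addOne I.length (subCols I (prodCols D T))) U V

variable {D : ChevalleyDatum}

/-- the coordinates of the subspace -/
def subEmb (D : ChevalleyDatum) (I : List ℕ) (h : ∀ c ∈ I, c < D.rank + D.nroots) (i : Fin I.length) : D.Idx :=
  idxEquiv D ⟨I[(i : ℕ)], h _ (List.getElem_mem _)⟩

theorem code_subEmb (I : List ℕ) (h : ∀ c ∈ I, c < D.rank + D.nroots) (i : Fin I.length) :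
    code D (subEmb D I h i) = I[(i : ℕ)] := code_idxEquiv D _

theorem subEmb_injective {I : List ℕ} (hI : I.Nodup) (h : ∀ c ∈ I, c < D.rank + D.nroots) :
    Function.Injective (subEmb D I h) := fun i j e => by
  have e' := congrArg (code D) e
  rw [code_subEmb, code_subEmb] at e'
  exact Fin.ext (hI.getElem_inj_iff.1 e')

theorem mem_range_subEmb {I : List ℕ} (h : ∀ c ∈ I, c < D.rank + D.nroots) (b : D.Idx) :
    b ∈ Set.range (subEmb D I h) ↔ code D b ∈ I := by
  constructor
  · rintro ⟨i, rfl⟩; rw [code_subEmb]; exact List.getElem_mem _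
  · intro hb
    obtain ⟨i, hi, e⟩ := List.mem_iff_getElem.1 hb
    exact ⟨⟨i, hi⟩, code_injective D (by rw [code_subEmb]; exact e)⟩

theorem subIdx_getElem {I : List ℕ} (hI : I.Nodup) {x : ℕ} (hx : x ∈ I) {i : ℕ} (hi : i < I.length) :
    subIdx I x = i ↔ x = I[i] := by
  have hlt : subIdx I x < I.length := List.findIdx_lt_length.2 ⟨x, hx, nat_beq_iff.2 rfl⟩
  have he : I[subIdx I x] = x := nat_beq_iff.1 (List.findIdx_getElem (p := fun y => Nat.beq y x) (w := hlt))
  constructor
  · intro h; subst h; exact he.symm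
  · intro h; exact hI.getElem_inj_iff.1 (he.trans h)

theorem bMat_subCols {F : Type*} [Field F] {I : List ℕ} (hI : I.Nodup) (h : ∀ c ∈ I, c < D.rank + D.nroots)
    (cols : List (List ℕ)) :
    (bMat F (D.rank + D.nroots) (D.rank + D.nroots) cols).submatrix
        (fun i : Fin I.length => (⟨I[(i : ℕ)], h _ (List.getElem_mem _)⟩ : Fin (D.rank + D.nroots)))
        (fun i : Fin I.length => (⟨I[(i : ℕ)], h _ (List.getElem_mem _)⟩ : Fin (D.rank + D.nroots))) =
      bMat F I.length I.length (subCols I cols) := by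
  ext a b
  simp only [bMat, Matrix.submatrix_apply, Matrix.of_apply]
  rw [show (subCols I cols).getD (b : ℕ) [] = ((cols.getD I[(b : ℕ)] []).filter fun x => memN x I).map (subIdx I) by
    simp [subCols, List.getD_eq_getElem?_getD, b.2]]
  generalize cols.getD I[(b : ℕ)] [] = L
  induction L with
  | nil => rfl
  | cons x L ih =>
    by_cases hx : x ∈ I
    · rw [List.filter_cons_of_pos (p := fun x => memN x I) (memN_iff.2 hx), List.map_cons, vF_cons, vF_cons, ih]
      congr 1
      simp only [subIdx_getElem hI hx a.2]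
    · rw [List.filter_cons_of_neg (p := fun x => memN x I) (fun e => hx (memN_iff.1 e)), vF_cons, ih]
      rw [if_neg fun e => hx (by rw [e]; exact List.getElem_mem _), zero_add]

theorem pres_x {F : Type*} [Field F] [CharP F 2] {X : Aux} (C : Cert D X) {I : List ℕ} (hI : chkIdeal D I = true)
    (h : ∀ c ∈ I, c < D.rank + D.nroots) (r : ℕ) (t : F) : Pres (subEmb D I h) (D.x F r t) := by
  simp only [chkIdeal, Bool.and_eq_true, List.all_eq_true, List.mem_range, Bool.or_eq_true, Bool.not_eq_true',
    memN_iff, decide_eq_true_iff] at hI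
  intro b hb j
  have hne : b ≠ subEmb D I h j := fun e => hb ⟨j, e.symm⟩
  by_cases hr : r < D.nroots
  · rw [xMat_eq D hr (C.neg_ne hr) (C.key_ne hr), Matrix.add_apply, Matrix.one_apply_ne hne, zero_add, matOf,
      Matrix.of_apply]
    refine List.sum_eq_zero fun v hv => ?_
    obtain ⟨e, he, rfl⟩ := List.mem_map.1 hv
    split_ifs with hcd
    · rcases hI.2 r hr e he with (h1 | h1) | h1
      · have : memN e.2.2.1 I = true := memN_iff.2 (by rw [hcd.2, code_subEmb]; exact List.getElem_mem _)
        rw [this] at h1; exact Bool.noConfusion h1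
      · exact absurd ((mem_range_subEmb h b).2 (hcd.1 ▸ h1)) hb
      · rw [(CharP.intCast_eq_zero_iff F 2 _).2 (Int.dvd_of_emod_eq_zero h1), zero_mul]
    · rfl
  · rw [x_oob F hr t]
    exact Matrix.one_apply_ne hne

end InvTree

open InvTree

namespace Rel

variable {D : ChevalleyDatum} {X : Aux} {F : Type*} [Field F] {G : Type*} [Group G] (R : Rel D X F G)
include R

variable [CharP F 2] {I : List ℕ} (hI : chkIdeal D I = true) (h : ∀ c ∈ I, c < D.rank + D.nroots)

include hI in
theorem pres_mat (g : G) : Pres (subEmb D I h) (R.mat g) ∧ Pres (subEmb D I h) (R.mat g⁻¹) := by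
  have hg : g ∈ (⊤ : Subgroup G) := Subgroup.mem_top g
  rw [← R.gen] at hg
  induction hg using Subgroup.closure_induction with
  | mem x hx =>
    obtain ⟨r, t, rfl⟩ := hx
    refine ⟨?_, ?_⟩
    · rw [R.mat_xe]; exact pres_x R.cert hI h _ t
    · rw [← R.xe_neg, R.mat_xe]; exact pres_x R.cert hI h _ _
  | one => rw [inv_one, R.mat_one]; exact ⟨Pres.one _, Pres.one _⟩
  | mul x y _ _ hx hy =>
    exact ⟨by rw [R.mat_mul]; exact hx.1.mul hy.1, by rw [mul_inv_rev, R.mat_mul]; exact hy.2.mul hx.2⟩
  | inv x _ hx => rw [inv_inv]; exact ⟨hx.2, hx.1⟩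

/-- the rank of `g - 1` on the subspace -/
noncomputable def rkIdeal (g : G) : ℕ := ((R.mat g).submatrix (subEmb D I h) (subEmb D I h) - 1).rank

include hI in
theorem rkIdeal_conj {g g' : G} (hc : IsConj g g') : R.rkIdeal h g = R.rkIdeal h g' := by
  have hI' := hI
  simp only [chkIdeal, Bool.and_eq_true, decide_eq_true_iff] at hI'
  have hinj := subEmb_injective hI'.1.1 h
  obtain ⟨k, rfl⟩ := isConj_iff.1 hc
  obtain ⟨A, hA⟩ : ∃ A, A = fun x : G => (R.mat x).submatrix (subEmb D I h) (subEmb D I h) := ⟨_, rfl⟩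
  have hmul : ∀ x y : G, A (x * y) = A x * A y := fun x y => by
    simp only [hA, R.mat_mul]; exact Pres.submatrix_mul hinj _ (R.pres_mat hI h y).1
  have hone : A 1 = 1 := by simp only [hA, R.mat_one]; exact Matrix.submatrix_one _ hinj
  have hu : IsUnit (A k).det :=
    Matrix.isUnit_det_of_right_inverse (B := A k⁻¹) (by rw [← hmul, mul_inv_cancel, hone])
  have e : (A (k * g * k⁻¹) - 1) * A k = A k * (A g - 1) := by
    rw [sub_mul, mul_sub, one_mul, mul_one, ← hmul, ← hmul, inv_mul_cancel_right]
  show ((R.mat g).submatrix (subEmb D I h) (subEmb D I h) - 1).rank =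
    ((R.mat (k * g * k⁻¹)).submatrix (subEmb D I h) (subEmb D I h) - 1).rank
  rw [show (R.mat g).submatrix (subEmb D I h) (subEmb D I h) = A g by rw [hA],
    show (R.mat (k * g * k⁻¹)).submatrix (subEmb D I h) (subEmb D I h) = A (k * g * k⁻¹) by rw [hA]]
  rw [← Matrix.rank_mul_eq_left_of_isUnit_det (A k) (A (k * g * k⁻¹) - 1) hu, e,
    Matrix.rank_mul_eq_right_of_isUnit_det _ _ hu]

theorem rkIdeal_prodOne {T : List ℕ} {r : ℕ} {U V : List (List ℕ)} (hI' : I.Nodup)
    (hc : chkSubRank D I T r U V = true) : R.rkIdeal h (R.prodOne T) = r := by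
  simp only [chkSubRank, Bool.and_eq_true, List.all_eq_true, nat_blt_iff] at hc
  have h1 := rank_of_chk (F := F) hc.2
  rw [bMat_addOne, ← bMat_subCols hI' h, ← R.prodCols_spec hc.1] at h1
  rw [rkIdeal, ← h1]
  rfl

end Rel

end CfsgLib.Lie.Chev
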